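import Cfsg.Agent.H402.Rec.SpecP
import Cfsg.Agent.H128.CV.Arith

/-!
# S3442 [O3]: elements of `SL_4(F)` with prescribed distinct eigenvalues, orders `p m` in `PSL_4`, `PSU_4`
-/

set_option autoImplicit false
set_option linter.unusedSectionVars false

namespace Cfsg.Agent.H128.CV

open Matrix Finset Cfsg.Agent.H403 Cfsg.Agent.H402.Rec

/-! ### Diagonalization -/

section diag

variable {n : ℕ} {E : Type*} [Field E]

/-- a matrix with distinct eigenvalues is diagonalizable -/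
theorem exists_diag {M : Matrix (Fin n) (Fin n) E} {θ : Fin n → E} (hθ : Function.Injective θ) (v : Fin n → Fin n → E)
    (hv : ∀ j, v j ≠ 0) (h : ∀ j, M *ᵥ v j = θ j • v j) : ∃ g : GL (Fin n) E, M = g.1 * diagonal θ * (g⁻¹).1 := by
  have hli : LinearIndependent E v := Module.End.eigenvectors_linearIndependent' (Matrix.toLin' M) θ hθ v
    (fun j => ⟨Module.End.mem_eigenspace_iff.2 (by rw [Matrix.toLin'_apply]; exact h j), hv j⟩)
  have hu : IsUnit (Matrix.of v)ᵀ := (Matrix.isUnit_transpose _).2 (Matrix.linearIndependent_rows_iff_isUnit.1 hli)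
  obtain ⟨g, hg⟩ := hu
  refine ⟨g, ?_⟩
  have key : M * g.1 = g.1 * diagonal θ := by
    rw [hg]
    ext i j
    rw [Matrix.mul_diagonal, Matrix.mul_apply]
    have h1 := congrFun (h j) i
    rw [Matrix.mulVec, dotProduct] at h1
    simp only [transpose_apply, of_apply]
    rw [h1, Pi.smul_apply, smul_eq_mul, mul_comm]
  rw [← key, Matrix.mul_assoc, ← Units.val_mul, mul_inv_cancel, Units.val_one, Matrix.mul_one]

variable {F : Type*} [Field F] [Algebra F E]

theorem map_pow_eq {M : Matrix (Fin n) (Fin n) F} {θ : Fin n → E} {g : GL (Fin n) E}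
    (h : M.map (algebraMap F E) = g.1 * diagonal θ * (g⁻¹).1) (k : ℕ) :
    (M ^ k).map (algebraMap F E) = g.1 * diagonal (fun j => θ j ^ k) * (g⁻¹).1 := by
  have e1 : (M ^ k).map (algebraMap F E) = (M.map (algebraMap F E)) ^ k := by
    have := map_pow (RingHom.mapMatrix (m := Fin n) (algebraMap F E)) M k
    exact this
  rw [e1, h]
  have e2 : ∀ k : ℕ, (g.1 * diagonal θ * (g⁻¹).1) ^ k = g.1 * (diagonal θ) ^ k * (g⁻¹).1 := by
    intro k
    induction k with
    | zero => rw [pow_zero, pow_zero, Matrix.mul_one, ← Units.val_mul, mul_inv_cancel, Units.val_one]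
    | succ k ih =>
      rw [pow_succ, ih, pow_succ]
      have : (g⁻¹).1 * g.1 = 1 := by rw [← Units.val_mul, inv_mul_cancel, Units.val_one]
      calc g.1 * diagonal θ ^ k * (g⁻¹).1 * (g.1 * diagonal θ * (g⁻¹).1) =
          g.1 * diagonal θ ^ k * ((g⁻¹).1 * g.1) * diagonal θ * (g⁻¹).1 := by simp only [Matrix.mul_assoc]
        _ = g.1 * (diagonal θ ^ k * diagonal θ) * (g⁻¹).1 := by
          rw [this, Matrix.mul_one, Matrix.mul_assoc g.1]
  rw [e2, diagonal_pow]
  rfl

theorem pow_eq_one_of {M : Matrix (Fin n) (Fin n) F} {θ : Fin n → E} {g : GL (Fin n) E}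
    (h : M.map (algebraMap F E) = g.1 * diagonal θ * (g⁻¹).1) {k : ℕ} (hk : ∀ j, θ j ^ k = 1) : M ^ k = 1 := by
  have h1 := map_pow_eq h k
  have h2 : (fun j => θ j ^ k) = fun _ => 1 := funext hk
  rw [h2, diagonal_one, Matrix.mul_one, ← Units.val_mul, mul_inv_cancel, Units.val_one] at h1
  apply Matrix.map_injective (algebraMap F E).injective
  show (M ^ k).map (algebraMap F E) = (1 : Matrix (Fin n) (Fin n) F).map (algebraMap F E)
  rw [h1]
  ext i j
  by_cases hij : i = j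
  · subst hij; simp
  · simp [hij]

theorem theta_pow_of {M : Matrix (Fin n) (Fin n) F} {θ : Fin n → E} {g : GL (Fin n) E}
    (h : M.map (algebraMap F E) = g.1 * diagonal θ * (g⁻¹).1) {k : ℕ} {c : F}
    (hk : M ^ k = c • (1 : Matrix (Fin n) (Fin n) F)) (j : Fin n) : θ j ^ k = algebraMap F E c := by
  have h1 := map_pow_eq h k
  have h2 : (M ^ k).map (algebraMap F E) = algebraMap F E c • (1 : Matrix (Fin n) (Fin n) E) := by
    rw [hk]
    ext i j
    by_cases hij : i = j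
    · subst hij; simp
    · simp [hij]
  rw [h2] at h1
  have h3 : diagonal (fun j => θ j ^ k) = algebraMap F E c • (1 : Matrix (Fin n) (Fin n) E) := by
    have h4 : (g⁻¹).1 * g.1 = 1 := by rw [← Units.val_mul, inv_mul_cancel, Units.val_one]
    calc diagonal (fun j => θ j ^ k) = ((g⁻¹).1 * g.1) * diagonal (fun j => θ j ^ k) * ((g⁻¹).1 * g.1) := by
          rw [h4, Matrix.one_mul, Matrix.mul_one]
      _ = (g⁻¹).1 * (g.1 * diagonal (fun j => θ j ^ k) * (g⁻¹).1) * g.1 := by simp only [Matrix.mul_assoc]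
      _ = (g⁻¹).1 * (algebraMap F E c • (1 : Matrix (Fin n) (Fin n) E)) * g.1 := by rw [← h1]
      _ = algebraMap F E c • ((g⁻¹).1 * g.1) := by
          rw [Matrix.mul_smul, Matrix.mul_one, Matrix.smul_mul]
      _ = _ := by rw [h4]
  have h4 := congrFun (congrFun h3 j) j
  simpa using h4

/-- an element of `SL_4(F)` with given characteristic polynomial with distinct roots -/
theorem exists_SL4 {θ : Fin 4 → E} (hθ : Function.Injective θ) (s1 s2 s3 : F)
    (h1 : algebraMap F E s1 = θ 0 + θ 1 + θ 2 + θ 3)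
    (h2 : algebraMap F E s2 = θ 0 * θ 1 + θ 0 * θ 2 + θ 0 * θ 3 + θ 1 * θ 2 + θ 1 * θ 3 + θ 2 * θ 3)
    (h3 : algebraMap F E s3 = θ 0 * θ 1 * θ 2 + θ 0 * θ 1 * θ 3 + θ 0 * θ 2 * θ 3 + θ 1 * θ 2 * θ 3)
    (h4 : θ 0 * θ 1 * θ 2 * θ 3 = 1) :
    ∃ (x : SpecialLinearGroup (Fin 4) F) (g : GL (Fin 4) E),
      x.1.map (algebraMap F E) = g.1 * diagonal θ * (g⁻¹).1 := by
  let N : Matrix (Fin 4) (Fin 4) F := !![0, 1, 0, 0; 0, 0, 1, 0; 0, 0, 0, 1; -1, s3, -s2, s1]
  have hdet : N.det = 1 := by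
    simp [N, Matrix.det_succ_row_zero, Fin.sum_univ_succ, Fin.succAbove]
  have hroot : ∀ j : Fin 4, θ j ^ 4 = -1 + algebraMap F E s3 * θ j - algebraMap F E s2 * θ j ^ 2 + algebraMap F E s1 * θ j ^ 3 := by
    rw [h1, h2, h3]
    intro j
    fin_cases j
    · simp only [Fin.zero_eta, Fin.isValue]; linear_combination -h4
    · simp only [Fin.mk_one, Fin.isValue]; linear_combination -h4
    · simp only [Fin.reduceFinMk, Fin.isValue]; linear_combination -h4
    · simp only [Fin.reduceFinMk, Fin.isValue]; linear_combination -h4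
  obtain ⟨g, hg⟩ := exists_diag (M := N.map (algebraMap F E)) hθ (fun j => ![1, θ j, θ j ^ 2, θ j ^ 3]) (fun j hj => by
    have := congrFun hj 0
    simp at this) (fun j => by
    have hr := hroot j
    ext i
    fin_cases i
    · simp [N, Matrix.mulVec, dotProduct, Fin.sum_univ_succ]
    · simp [N, Matrix.mulVec, dotProduct, Fin.sum_univ_succ, pow_succ]
    · simp [N, Matrix.mulVec, dotProduct, Fin.sum_univ_succ, pow_succ]
      ring
    · simp [N, Matrix.mulVec, dotProduct, Fin.sum_univ_succ]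
      linear_combination -hr)
  exact ⟨⟨N, hdet⟩, g, hg⟩

end diag

section frob

variable {F : Type*} [Field F] [Fintype F] {E : Type*} [Field E] [IsAlgClosed E] [Algebra F E] {q p : ℕ}

/-- the elements of `E` fixed by `y ↦ y ^ q` -/
theorem exists_of_fix (hF : Fintype.card F = q) {y : E} (h : y ^ q = y) : ∃ c : F, algebraMap F E c = y := by
  by_cases h0 : y = 0
  · exact ⟨0, by rw [h0, map_zero]⟩
  · refine mem_range_of_fix (e := true) (q := q) (by simpa using hF) h0 ?_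
    show y ^ (q : ℤ) = y
    rw [zpow_natCast, h]

/-- an element of `SL_4(F)` with given distinct eigenvalues, permuted by `y ↦ y ^ q` -/
theorem exists_SL4' (hF : Fintype.card F = q) (h2 : (2 : E) ≠ 0) {θ : Fin 4 → E} (hθ : Function.Injective θ)
    (σ : Equiv.Perm (Fin 4)) (hσ : ∀ j, θ j ^ q = θ (σ j)) (h4 : θ 0 * θ 1 * θ 2 * θ 3 = 1) :
    ∃ (x : SpecialLinearGroup (Fin 4) F) (g : GL (Fin 4) E),
      x.1.map (algebraMap F E) = g.1 * diagonal θ * (g⁻¹).1 := by
  obtain ⟨Φ, hΦ⟩ := exists_powHomE (t := 0) (by rw [hF, zero_add, pow_one]) E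
  have hfix : ∀ u : E → E, (∀ y, Φ (u y) = u (Φ y)) → ∃ c : F, algebraMap F E c = ∑ j, u (θ j) := by
    intro u hu
    apply exists_of_fix hF
    rw [← hΦ, map_sum]
    have h1 : ∀ j, Φ (u (θ j)) = u (θ (σ j)) := fun j => by rw [hu, hΦ, hσ]
    rw [Finset.sum_congr rfl fun j _ => h1 j]
    exact Equiv.sum_comp σ fun j => u (θ j)
  obtain ⟨s1, hs1⟩ := hfix id fun y => rfl
  obtain ⟨t2, ht2⟩ := hfix (fun y => y ^ 2) fun y => map_pow Φ y 2
  obtain ⟨s3, hs3⟩ := hfix (fun y => y⁻¹) fun y => map_inv₀ Φ y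
  simp only [Fin.sum_univ_four, id] at hs1 ht2 hs3
  have h0 : ∀ j, θ j ≠ 0 := by
    intro j hj
    have h5 : ∏ j, θ j = 1 := by rw [Fin.prod_univ_four, h4]
    rw [Finset.prod_eq_zero (mem_univ j) hj] at h5
    exact zero_ne_one h5
  refine exists_SL4 hθ s1 ((s1 ^ 2 - t2) / 2) s3 hs1 ?_ ?_ h4
  · rw [map_div₀, map_sub, map_pow, hs1, ht2, map_ofNat, div_eq_iff h2]
    ring
  · have i0 := h0 0
    have i1 := h0 1
    have i2 := h0 2
    have i3 := h0 3
    rw [hs3]
    have e0 : (θ 0)⁻¹ = θ 1 * θ 2 * θ 3 := by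
      apply inv_eq_of_mul_eq_one_right
      rw [← h4]; ring
    have e1 : (θ 1)⁻¹ = θ 0 * θ 2 * θ 3 := by
      apply inv_eq_of_mul_eq_one_right
      rw [← h4]; ring
    have e2 : (θ 2)⁻¹ = θ 0 * θ 1 * θ 3 := by
      apply inv_eq_of_mul_eq_one_right
      rw [← h4]; ring
    have e3 : (θ 3)⁻¹ = θ 0 * θ 1 * θ 2 := by
      apply inv_eq_of_mul_eq_one_right
      rw [← h4]; ring
    rw [e0, e1, e2, e3]
    ring

end frob

/-! ### Orders -/

section spec

variable {F : Type*} [Field F] [Fintype F] {e : Bool} {q : ℕ} {L : Type*} [Group L]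

/-- `p m` is not an order -/
theorem no_order {p : ℕ} (hp : p.Prime) (hp5 : 5 ≤ p) [CharP F p]
    (hL : Lin (AlgebraicClosure F) L e 4 q F)
    (hF : Fintype.card F = q ^ (cond e 0 1 + 1)) {m : ℕ} (hm : ¬ p ∣ m)
    (h1 : ¬ m * Nat.gcd 4 (M1 e q) ∣ q ^ 2 - 1) (h2 : ¬ m ∣ M1 e q) (y : L) : orderOf y ≠ p * m := by
  intro hy
  have hq2 : 2 ≤ q := two_le_of_card hF
  have hpq : p ∣ q := by
    have h3 : p ∣ Fintype.card F := by
      obtain ⟨k, -, hk⟩ := FiniteField.card F p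
      rw [hk]
      exact dvd_pow_self p k.2.ne'
    rw [hF] at h3
    exact hp.dvd_of_dvd_pow h3
  have hsub : ∀ N : ℕ, 1 ≤ N → p ∣ N → ¬ p ∣ N - 1 := by
    intro N hN h3 h4
    have h5 := Nat.dvd_sub h3 h4
    rw [Nat.sub_sub_self hN] at h5
    exact hp.one_lt.ne' (Nat.dvd_one.1 h5)
  have hadd : ∀ N : ℕ, p ∣ N → ¬ p ∣ N + 1 := by
    intro N h3 h4
    have h5 := (Nat.dvd_add_right h3).1 h4
    exact hp.one_lt.ne' (Nat.dvd_one.1 h5)
  have hqk : ∀ k, 1 ≤ q ^ k := fun k => Nat.one_le_pow _ _ (by omega)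
  rcases spec_p hp hp5 hL hF y with h | h | h | h | h
  · rw [hy] at h
    have h3 : p ∣ M3 e q := (Dvd.intro _ (by rw [mul_assoc]) : p ∣ p * m * _).trans h
    unfold M3 at h3
    split_ifs at h3
    · exact hsub _ (hqk 3) (hpq.trans (dvd_pow_self q (by norm_num))) h3
    · exact hadd _ (hpq.trans (dvd_pow_self q (by norm_num))) h3
  · rw [hy] at h
    have h3 : p ∣ M4 e q := (Dvd.intro _ (by rw [mul_assoc]) : p ∣ p * m * _).trans h
    unfold M4 at h3
    split_ifs at h3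
    · rcases hp.dvd_mul.1 h3 with h4 | h4
      · exact hadd _ (hpq.trans (dvd_pow_self q (by norm_num))) h4
      · exact hadd _ hpq h4
    · rcases hp.dvd_mul.1 h3 with h4 | h4
      · exact hadd _ (hpq.trans (dvd_pow_self q (by norm_num))) h4
      · exact hsub _ (by omega) hpq h4
  · rw [hy] at h
    exact hsub _ (hqk 2) (hpq.trans (dvd_pow_self q (by norm_num))) ((Dvd.intro _ rfl).trans h)
  · rw [hy, mul_assoc] at h
    exact h1 (Nat.dvd_of_mul_dvd_mul_left hp.pos h)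
  · rw [hy] at h
    exact h2 (Nat.dvd_of_mul_dvd_mul_left hp.pos h)

end spec

end Cfsg.Agent.H128.CV
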