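import Cfsg.Agent.H356.TA.Fix

/-!
# S3442 [O3]: the engine of `SL_n(F)` with the class family chosen before the element

(The proofs are those of `H356.TI.Fix`, `H356.TA.Fix` with the quantifiers in the other order.)
-/

set_option autoImplicit false
set_option linter.unusedSectionVars false
set_option linter.unusedSimpArgs false

namespace Cfsg.Agent.H128.CV

open Polynomial Finset Cfsg.Agent.H45.Uni Cfsg.Agent.H45.UniE TensorProduct Cfsg.Agent.H356.TA

universe u v

/-- a module has a weight vector such that every `x` with a nonzero sum fixes a vector -/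
theorem exists_weight {p : ℕ} [Fact p.Prime] {F ι Φ S G : Type*} {k : Type v} [Field F] [Fintype F] [Group S]
    [Finite S] {E : SDat F ι Φ S} [Field k] [Algebra F k] [Group G] [DecidableEq ι] [Fintype ι] {D : FDat ι Φ k G} {bc : S →* G}
    [CharP k p] [Infinite k] (hbc : E.Bc D.toGDat bc) (hUp : IsPGroup p E.Up) (hUm : IsPGroup p E.Um)
    (V : Type u) [AddCommGroup V] [Module (ZMod p) V] [Finite V] [Nontrivial V] (ρ : S →* (V ≃ₗ[ZMod p] V))
    (hwt : ∀ (W : Type (max u v)) [AddCommGroup W] [Module k W], E.Wt k W)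
    (hNeg : ∀ (W : Type (max u v)) [AddCommGroup W] [Module k W], E.Neg k (W × (S → k))) :
    ∃ (W : Type (max u v)) (_ : AddCommGroup W) (_ : Module k W) (σ : S →* Module.End k W) (n : ι → ℕ) (v : W),
      (∀ g, ρ g = 1 → σ g = 1) ∧ v ≠ 0 ∧ (∀ i, n i < Fintype.card F) ∧ E.IsWt σ n v ∧
      ∀ x : S, (∃ h g, ∑ i ∈ range (orderOf x), D.cc n (h * bc x ^ i * g) ≠ 0) → ∃ w : V, w ≠ 0 ∧ ρ x w = w := by
  classical
  let _ : Algebra (ZMod p) k := ZMod.algebra k p
  have : Module.Finite (ZMod p) V := Module.Finite.of_finite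
  -- base change
  let ρk : S →* Module.End k (k ⊗[ZMod p] V) :=
    { toFun := fun g => (ρ g).toLinearMap.baseChange k
      map_one' := by
        rw [map_one]
        exact LinearMap.baseChange_id
      map_mul' := fun g h => by
        rw [map_mul]
        exact LinearMap.baseChange_comp _ _ }
  have hnt : Nontrivial (k ⊗[ZMod p] V) := by
    obtain ⟨w, hw⟩ := exists_ne (0 : V)
    have hinj : Function.Injective (fun v : V => (1 : k) ⊗ₜ[ZMod p] v) := by
      have h1 : Function.Injective (LinearMap.rTensor V (Algebra.linearMap (ZMod p) k)) :=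
        Module.Flat.rTensor_preserves_injective_linearMap _ (algebraMap (ZMod p) k).injective
      intro a b hab
      have h2 : LinearMap.rTensor V (Algebra.linearMap (ZMod p) k) ((TensorProduct.lid (ZMod p) V).symm a) =
          LinearMap.rTensor V (Algebra.linearMap (ZMod p) k) ((TensorProduct.lid (ZMod p) V).symm b) := by
        rw [TensorProduct.lid_symm_apply, TensorProduct.lid_symm_apply, LinearMap.rTensor_tmul,
          LinearMap.rTensor_tmul, Algebra.linearMap_apply, map_one]
        exact hab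
      exact (TensorProduct.lid (ZMod p) V).symm.injective (h1 h2)
    refine ⟨⟨(1 : k) ⊗ₜ[ZMod p] w, 0, fun h => hw ?_⟩⟩
    apply hinj
    show (1 : k) ⊗ₜ[ZMod p] w = (1 : k) ⊗ₜ[ZMod p] (0 : V)
    rw [h, TensorProduct.tmul_zero]
  obtain ⟨N, hN0, hNinv, hNmin⟩ := exists_min ρk
  let ρN : S →* Module.End k N :=
    { toFun := fun g => (ρk g).restrict (hNinv g)
      map_one' := by
        ext x
        simp
      map_mul' := fun g h => by
        ext x
        simp }
  have hNnt : Nontrivial N := Submodule.nontrivial_iff_ne_bot.2 hN0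
  have hirr : ∀ M : Submodule k N, (∀ g, ∀ v ∈ M, ρN g v ∈ M) → M = ⊥ ∨ M = ⊤ := by
    intro M hM
    by_cases h0 : M = ⊥
    · exact Or.inl h0
    right
    have h1 := hNmin (M.map N.subtype) (fun h => h0 (by
      rw [eq_bot_iff]
      intro v hv
      have h2 : v.1 ∈ M.map N.subtype := ⟨v, hv, rfl⟩
      rw [h, Submodule.mem_bot] at h2
      exact Subtype.ext h2)) (by
        rintro g _ ⟨v, hv, rfl⟩
        exact ⟨ρN g v, hM g v hv, rfl⟩) (Submodule.map_subtype_le N M)
    rw [eq_top_iff]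
    rintro ⟨v, hv⟩ -
    rw [← h1] at hv
    obtain ⟨w, hw, hwv⟩ := hv
    have : w = ⟨v, by rw [← h1]; exact ⟨w, hw, hwv⟩⟩ := Subtype.ext hwv
    rw [← this]
    exact hw
  have hker : ∀ g, ρ g = 1 → ρN g = 1 := by
    intro g hg
    ext x
    show (ρk g x.1) = x.1
    have : ρk g = 1 := by
      show (ρ g).toLinearMap.baseChange k = 1
      rw [hg]
      exact LinearMap.baseChange_id
    rw [this]
    rfl
  obtain ⟨v0, n, hv00, ha, hv1⟩ := hwt N ρN inferInstance inferInstance hirr
  refine ⟨N, inferInstance, inferInstance, ρN, n, v0, hker, hv00, ha, hv1, ?_⟩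
  rintro x ⟨h1, g1, h2⟩
  by_contra hcon
  push Not at hcon
  -- no fixed vectors on `N`
  have hconN : ∀ v : N, v ≠ 0 → ρN x v ≠ v := by
    intro v hv0 hv
    have hinj : Function.Injective ((ρ x).toLinearMap - LinearMap.id : V →ₗ[ZMod p] V) := by
      rw [injective_iff_map_eq_zero]
      intro w hw
      by_contra hw0
      exact hcon w hw0 (sub_eq_zero.1 hw)
    have hinj2 : Function.Injective (LinearMap.lTensor k ((ρ x).toLinearMap - LinearMap.id : V →ₗ[ZMod p] V)) :=
      Module.Flat.lTensor_preserves_injective_linearMap _ hinj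
    apply hv0
    apply Subtype.ext
    apply hinj2
    rw [LinearMap.lTensor_sub, LinearMap.sub_apply]
    have h3 : ρk x v.1 = v.1 := congrArg Subtype.val hv
    have h4 : LinearMap.lTensor k (ρ x).toLinearMap v.1 = v.1 := h3
    rw [h4, LinearMap.lTensor_id]
    simp
  set r := orderOf x with hr
  have hsum : ∀ w : N, ∑ i ∈ range r, ρN (x ^ i) w = 0 := by
    intro w
    by_contra hne
    apply hconN _ hne
    rw [map_sum]
    have e : ∀ i, ρN x (ρN (x ^ i) w) = ρN (x ^ (i + 1)) w := by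
      intro i
      rw [pow_succ', map_mul]; rfl
    simp only [e]
    have h6 := Finset.sum_range_succ (fun i => ρN (x ^ i) w) r
    have h7 := Finset.sum_range_succ' (fun i => ρN (x ^ i) w) r
    rw [h6] at h7
    have h8 : x ^ r = 1 := pow_orderOf_eq_one x
    simp only [h8, pow_zero] at h7
    exact (add_right_cancel h7).symm
  exact h2 (relations (p := p) hbc hUp hUm (hNeg N) ρN ha hv00 hv1 hsum h1 g1)

section main

variable {n : ℕ} {F : Type v} [Field F] [Fintype F] {p : ℕ} [Fact p.Prime] [CharP F p]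

/-- **the class family of a module of `PSL_n(F)`** -/
theorem exists_class_SL {f : ℕ} (hf : Fintype.card F = p ^ f)
    (V : Type u) [AddCommGroup V] [Module (ZMod p) V] [Finite V] [Nontrivial V]
    (ρ : Matrix.SpecialLinearGroup (Fin (n + 1)) F →* (V ≃ₗ[ZMod p] V))
    (hz : ∀ z ∈ Subgroup.center (Matrix.SpecialLinearGroup (Fin (n + 1)) F), ρ z = 1) :
    ∃ c : ℕ → ℕ, (∀ a, c a ≤ n) ∧ Nat.gcd (n + 1) (Fintype.card F - 1) ∣ ∑ a ∈ range f, p ^ a * c a ∧
      ∀ (x : Matrix.SpecialLinearGroup (Fin (n + 1)) F) (_ : (orderOf x).Coprime p)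
        (θ : Fin (n + 1) → AlgebraicClosure F) (g : GL (Fin (n + 1)) (AlgebraicClosure F))
        (_ : x.1.map (algebraMap F (AlgebraicClosure F)) = g.1 * Matrix.diagonal θ * (g⁻¹).1)
        (J : ℕ → Finset (Fin (n + 1))), (∀ a < f, (J a).card = c a) →
        ∏ a ∈ range f, (∏ j ∈ J a, θ j) ^ p ^ a = 1 → ∃ w : V, w ≠ 0 ∧ ρ x w = w := by
  classical
  have hpp : p.Prime := Fact.out
  have hck : CharP (AlgebraicClosure F) p :=
    charP_of_injective_algebraMap (algebraMap F (AlgebraicClosure F)).injective p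
  obtain ⟨W, _, _, σ, m, v, hσ, hv, hm, hwt, hfix⟩ := exists_weight (p := p) (E := sdA n F) (D := fdA n (AlgebraicClosure F))
    (bc := bcA n F (AlgebraicClosure F)) isBc isPGroup_Up isPGroup_Um V ρ (fun W _ _ => wtA (p := p)) (fun W _ _ => negA)
  -- the centre
  have hdvd : Nat.gcd (n + 1) (Fintype.card F - 1) ∣ ∑ j : Fin n, ((j : ℕ) + 1) * m j := by
    obtain ⟨u, hu⟩ := IsCyclic.exists_generator (α := Fˣ)
    have hou : orderOf u = Fintype.card F - 1 := by
      rw [orderOf_eq_card_of_forall_mem_zpowers hu, Nat.card_eq_fintype_card, Fintype.card_units]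
    have hq : 1 < Fintype.card F := Fintype.one_lt_card
    set d := Nat.gcd (n + 1) (Fintype.card F - 1) with hd
    obtain ⟨e, he⟩ : d ∣ Fintype.card F - 1 := Nat.gcd_dvd_right _ _
    set ζ : Fˣ := u ^ e with hζ
    have he0 : e ≠ 0 := by
      rintro rfl
      omega
    have hoζ : orderOf ζ = d := by
      rw [hζ, orderOf_pow_of_dvd he0 (by rw [hou, he]; exact Dvd.intro_left _ rfl), hou, he,
        Nat.mul_div_cancel _ (Nat.pos_of_ne_zero he0)]
    have hζ1 : ζ ^ (n + 1) = 1 := by
      rw [← orderOf_dvd_iff_pow_eq_one, hoζ]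
      exact Nat.gcd_dvd_left _ _
    have h1 := hσ _ (hz _ (zk_center hζ1))
    have h2 := zk_act hwt ζ n le_rfl
    rw [h1] at h2
    have h3 : algebraMap F (AlgebraicClosure F) (ζ : F) ^ (∑ j : Fin n, ((j : ℕ) + 1) * m j) = 1 := by
      have h4 : ((1 : AlgebraicClosure F) - algebraMap F (AlgebraicClosure F) (ζ : F) ^
          (∑ j : Fin n, ((j : ℕ) + 1) * m j)) • v = 0 := by
        rw [sub_smul, one_smul, sub_eq_zero]
        exact h2
      exact (sub_eq_zero.1 ((smul_eq_zero.1 h4).resolve_right hv)).symm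
    rw [← hoζ, orderOf_dvd_iff_pow_eq_one]
    apply Units.ext
    apply (algebraMap F (AlgebraicClosure F)).injective
    rw [Units.val_pow_eq_pow_val, map_pow, h3, Units.val_one, map_one]
  have hm' : ∀ j, m j < p ^ f := fun j => by rw [← hf]; exact hm j
  set c : ℕ → ℕ := fun a => (∑ j : Fin n, ((j : ℕ) + 1) * (m j / p ^ a % p)) % (n + 1) with hc
  have hc2 : Nat.gcd (n + 1) (Fintype.card F - 1) ∣ ∑ a ∈ range f, p ^ a * c a := by
    have h1 : ∑ a ∈ range f, p ^ a * ∑ j : Fin n, ((j : ℕ) + 1) * (m j / p ^ a % p) = ∑ j : Fin n, ((j : ℕ) + 1) * m j := by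
      simp only [Finset.mul_sum]
      rw [Finset.sum_comm]
      refine Finset.sum_congr rfl fun j _ => ?_
      have h2 := FDat.digits_eq p f hpp.one_lt (m j) (hm' j)
      conv_rhs => rw [← h2, Finset.mul_sum]
      exact Finset.sum_congr rfl fun a _ => by ring
    rw [← h1] at hdvd
    have h3 : (∑ a ∈ range f, p ^ a * c a) ≡ (∑ a ∈ range f, p ^ a * ∑ j : Fin n, ((j : ℕ) + 1) * (m j / p ^ a % p))
        [MOD (Nat.gcd (n + 1) (Fintype.card F - 1))] := by
      refine Nat.ModEq.sum fun a _ => ?_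
      refine Nat.ModEq.mul_left _ ?_
      exact (Nat.mod_modEq _ _).of_dvd (Nat.gcd_dvd_left _ _)
    exact (Nat.modEq_zero_iff_dvd).1 (h3.trans ((Nat.modEq_zero_iff_dvd).2 hdvd))
  refine ⟨c, fun a => Nat.lt_succ_iff.1 (Nat.mod_lt _ (Nat.succ_pos n)), hc2, fun x hx θ g hxθ J hJ1 hJ2 => hfix x ?_⟩
  have hr : ((orderOf x : ℕ) : AlgebraicClosure F) ≠ 0 := by
    rw [Ne, CharP.cast_eq_zero_iff (AlgebraicClosure F) p]
    intro h6
    exact (Nat.Prime.coprime_iff_not_dvd hpp).1 hx.symm h6
  have hbx : (bcA n F (AlgebraicClosure F) x).1 = g.1 * Matrix.diagonal θ * (g⁻¹).1 := hxθ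
  exact (fdA n (AlgebraicClosure F)).sum_ne_zero_digits (p := p) (x := bcA n F (AlgebraicClosure F) x) (f := f)
    (r := orderOf x) hr hm' (fun a => ∏ j ∈ J a, θ j) (fun a ha =>
      eig_of_conj (p := p) hbx _ (fun j => Nat.mod_lt _ hpp.pos) (hJ1 a ha)) hJ2

end main

end Cfsg.Agent.H128.CV
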