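import Cfsg.Agent.H373.CV.Base
import Cfsg.Agent.H128.CV.Elt
import Cfsg.Agent.H128.CV.EngSL

/-!
# S3442 [O3]: the own characteristic of `PSL_4(q)`, `p ≥ 5`
-/

set_option autoImplicit false
set_option linter.unusedSectionVars false

namespace Cfsg.Agent.H128.CV

open Matrix Finset Cfsg.Agent.H403 Cfsg.Agent.H402.Rec Cfsg.Agent.H373.CV

universe u

/-! ### Roots of unity -/

section roots

variable {F : Type} [Field F] [Fintype F] {p q : ℕ} [Fact p.Prime] [CharP F p]

local notation "E" => AlgebraicClosure F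

theorem exists_primitive {M : ℕ} (hM : ¬ p ∣ M) : ∃ ζ : E, IsPrimitiveRoot ζ M := by
  have hc : CharP E p := charP_of_injective_algebraMap (algebraMap F E).injective p
  have : NeZero ((M : ℕ) : E) := ⟨by rw [Ne, CharP.cast_eq_zero_iff E p]; exact hM⟩
  exact HasEnoughRootsOfUnity.exists_primitiveRoot E M

theorem injective_exp {ζ : E} {M : ℕ} (hζ : IsPrimitiveRoot ζ M) (hζ0 : ζ ≠ 0) {k : Fin 4 → ℤ}
    (h : ∀ i j, (M : ℤ) ∣ k i - k j → i = j) : Function.Injective fun j => ζ ^ k j := by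
  intro i j hij
  apply h
  rw [← hζ.zpow_eq_one_iff_dvd, zpow_sub₀ hζ0]
  have : ζ ^ k i = ζ ^ k j := hij
  rw [this, div_self (zpow_ne_zero _ hζ0)]

/-- an element with eigenvalues `ζ ^ k j` -/
theorem exists_exp (hF : Fintype.card F = q) (hp2 : p ≠ 2) {ζ : E} {M : ℕ} (hM : M ≠ 0) (hζ : IsPrimitiveRoot ζ M) {k : Fin 4 → ℤ}
    (h : ∀ i j, (M : ℤ) ∣ k i - k j → i = j) (hs : (M : ℤ) ∣ k 0 + k 1 + k 2 + k 3) (σ : Equiv.Perm (Fin 4))
    (hσ : ∀ j, (M : ℤ) ∣ k j * q - k (σ j)) :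
    ∃ (x : SpecialLinearGroup (Fin 4) F) (g : GL (Fin 4) E),
      x.1.map (algebraMap F E) = g.1 * diagonal (fun j => ζ ^ k j) * (g⁻¹).1 := by
  have hc : CharP E p := charP_of_injective_algebraMap (algebraMap F E).injective p
  have hζ0 : ζ ≠ 0 := hζ.ne_zero hM
  have h2 : (2 : E) ≠ 0 := by
    have h3 : ((2 : ℕ) : E) ≠ 0 := by
      rw [Ne, CharP.cast_eq_zero_iff E p]
      intro h
      exact hp2 ((Nat.prime_dvd_prime_iff_eq Fact.out Nat.prime_two).1 h)
    exact_mod_cast h3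
  refine exists_SL4' hF h2 (injective_exp hζ hζ0 h) σ (fun j => ?_) ?_
  · show (ζ ^ k j) ^ q = ζ ^ k (σ j)
    rw [← zpow_natCast, ← _root_.zpow_mul]
    have h3 := (hζ.zpow_eq_one_iff_dvd _).2 (hσ j)
    rw [zpow_sub₀ hζ0, div_eq_one_iff_eq (zpow_ne_zero _ hζ0)] at h3
    exact h3
  · show ζ ^ k 0 * ζ ^ k 1 * ζ ^ k 2 * ζ ^ k 3 = 1
    rw [← zpow_add₀ hζ0, ← zpow_add₀ hζ0, ← zpow_add₀ hζ0]
    exact (hζ.zpow_eq_one_iff_dvd _).2 hs

end roots

/-! ### The frame -/

section frame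

variable {E : Type*} [Field E] {p f : ℕ} {c : ℕ → ℕ} {θ : Fin 4 → E}

/-- the order of `J a` is exactly `c a` -/
theorem Good.exact (h : Good p f c θ) (hc : ∀ a, c a ≤ 3) (hθ : ∏ j, θ j = 1) :
    ∃ J : ℕ → Finset (Fin 4), (∀ a < f, (J a).card = c a) ∧ ∏ a ∈ range f, (∏ j ∈ J a, θ j) ^ p ^ a = 1 := by
  classical
  obtain ⟨J, hJ1, hJ2⟩ := h
  refine ⟨fun a => if J a = univ then ∅ else J a, fun a ha => ?_, ?_⟩
  · have h1 := hJ1 a ha
    have h2 := hc a
    show (if J a = univ then ∅ else J a).card = c a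
    split_ifs with h3
    · rw [h3] at h1
      have h4 : 4 % 4 = c a % 4 := h1
      rw [card_empty]
      omega
    · have h4 : (J a).card < 4 := by
        have := card_lt_univ_of_notMem (s := J a) (x := ((univ \ J a).toList.headD 0)) (by
          intro hmem
          have h5 : (univ \ J a).Nonempty := by
            rw [sdiff_nonempty]
            intro h6
            exact h3 (eq_univ_of_forall fun j => h6 (mem_univ j))
          obtain ⟨y, hy⟩ := h5
          cases hl : (univ \ J a).toList with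
          | nil =>
            have : y ∈ (univ \ J a).toList := mem_toList.2 hy
            rw [hl] at this
            simp at this
          | cons b l =>
            rw [hl, List.headD_cons] at hmem
            have hb : b ∈ (univ \ J a).toList := by rw [hl]; simp
            rw [mem_toList, mem_sdiff] at hb
            exact hb.2 hmem)
        simpa using this
      have h5 : (J a).card % 4 = c a % 4 := h1
      omega
  · rw [← hJ2]
    refine prod_congr rfl fun a _ => ?_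
    congr 1
    show ∏ j ∈ (if J a = univ then ∅ else J a), θ j = ∏ j ∈ J a, θ j
    split_ifs with h3
    · rw [h3, hθ, prod_empty]
    · rfl

end frame

/-- the linear action -/
theorem exists_rho {G : Type*} [Group G] {p : ℕ} {W : Type*} [AddCommGroup W] [Module (ZMod p) W]
    (φ : G →* AddMonoid.End W) : ∃ ρ : G →* (W ≃ₗ[ZMod p] W), ∀ g w, ρ g w = φ g w := by
  have hinv : ∀ (g : G) (w : W), φ g⁻¹ (φ g w) = w := by
    intro g w
    have h1 : φ (g⁻¹ * g) w = φ g⁻¹ (φ g w) := by rw [map_mul]; rfl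
    rw [← h1, inv_mul_cancel, map_one]
    rfl
  have hinv' : ∀ (g : G) (w : W), φ g (φ g⁻¹ w) = w := by
    intro g w
    have h1 := hinv g⁻¹ w
    rwa [inv_inv] at h1
  refine ⟨{ toFun := fun g => { (AddMonoidHom.toZModLinearMap p (φ g) : W →ₗ[ZMod p] W) with
              invFun := fun w => φ g⁻¹ w
              left_inv := fun w => hinv g w
              right_inv := fun w => hinv' g w }
            map_one' := ?_
            map_mul' := ?_ }, fun g w => rfl⟩
  · ext w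
    show φ 1 w = w
    rw [map_one]
    rfl
  · intro x y
    ext w
    show φ (x * y) w = φ x (φ y w)
    rw [map_mul]
    rfl

section row

variable {F : Type} [Field F] [Fintype F] {p q : ℕ} [Fact p.Prime] [CharP F p]

local notation "E" => AlgebraicClosure F
local notation "L" => Matrix.ProjectiveSpecialLinearGroup (Fin 4) F

/-- a witness -/
structure Wit (F : Type) [Field F] [Fintype F] (p q : ℕ) (θ : Fin 4 → AlgebraicClosure F)
    (x : SpecialLinearGroup (Fin 4) F) (g : GL (Fin 4) (AlgebraicClosure F)) : Prop where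
  conj : x.1.map (algebraMap F (AlgebraicClosure F)) = g.1 * diagonal θ * (g⁻¹).1
  prod : ∏ j, θ j = 1
  cop : ∃ N : ℕ, N.Coprime p ∧ ∀ j, θ j ^ N = 1
  big : ∃ m : ℕ, (∀ k : ℕ, (∀ i j, θ i ^ k = θ j ^ k) → m ∣ k) ∧ ¬ m * Nat.gcd 4 (q - 1) ∣ q ^ 2 - 1 ∧ ¬ m ∣ q - 1

theorem Wit.coprime {θ : Fin 4 → E} {x : SpecialLinearGroup (Fin 4) F} {g : GL (Fin 4) E} (h : Wit F p q θ x g) :
    (orderOf x).Coprime p := by
  obtain ⟨N, hN, hN1⟩ := h.cop
  have h1 : (x ^ N).1 = 1 := (Matrix.SpecialLinearGroup.coe_pow x N).trans (pow_eq_one_of h.conj hN1)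
  exact Nat.Coprime.coprime_dvd_left (orderOf_dvd_of_pow_eq_one (Subtype.ext h1)) hN

theorem Wit.no_order (hF : Fintype.card F = q) (hp5 : 5 ≤ p) {θ : Fin 4 → E} {x : SpecialLinearGroup (Fin 4) F}
    {g : GL (Fin 4) E} (h : Wit F p q θ x g) (y : L) : orderOf y ≠ p * orderOf (QuotientGroup.mk x : L) := by
  have hpp : p.Prime := Fact.out
  obtain ⟨m, hm, hm1, hm2⟩ := h.big
  have hmd : m ∣ orderOf (QuotientGroup.mk x : L) := by
    apply hm
    have h1 := pow_orderOf_eq_one (QuotientGroup.mk x : L)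
    set k := orderOf (QuotientGroup.mk x : L)
    rw [← QuotientGroup.mk_pow, QuotientGroup.eq_one_iff, Matrix.SpecialLinearGroup.mem_center_iff] at h1
    obtain ⟨r, -, hr⟩ := h1
    have h2 : (x : Matrix (Fin 4) (Fin 4) F) ^ k = r • (1 : Matrix (Fin 4) (Fin 4) F) := by
      rw [← Matrix.SpecialLinearGroup.coe_pow, ← hr, Matrix.scalar_apply, Matrix.smul_one_eq_diagonal]
    intro i j
    rw [theta_pow_of h.conj h2 i, theta_pow_of h.conj h2 j]
  refine Cfsg.Agent.H128.CV.no_order (F := F) (e := true) (q := q) hpp hp5 (lin_psl hF) (by simpa using hF) ?_ ?_ ?_ y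
  · intro h1
    have h2 : orderOf (QuotientGroup.mk x : L) ∣ orderOf x := orderOf_map_dvd (QuotientGroup.mk' _) x
    exact (Nat.Prime.coprime_iff_not_dvd hpp).1 h.coprime.symm (h1.trans h2)
  · intro h1
    exact hm1 ((Nat.mul_dvd_mul_right hmd _).trans h1)
  · intro h1
    exact hm2 (hmd.trans h1)

theorem core_of_wit {f : ℕ} (hF : Fintype.card F = q) (hq : q = p ^ f) (hp5 : 5 ≤ p)
    (H : ∀ c : ℕ → ℕ, (∀ a, c a ≤ 3) → Nat.gcd 4 (q - 1) ∣ ∑ a ∈ range f, p ^ a * c a →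
      ∃ (θ : Fin 4 → E) (x : SpecialLinearGroup (Fin 4) F) (g : GL (Fin 4) E), Wit F p q θ x g ∧ Good p f c θ)
    (W : Type u) [AddCommGroup W] [Module (ZMod p) W] [Finite W] [Nontrivial W] (hW : ∀ w : W, p • w = 0)
    (φ : L →* AddMonoid.End W) : ∃ (x : L) (w : W),
      ∑ i ∈ range (orderOf x), φ (x ^ i) w ≠ 0 ∧ ∀ y : L, orderOf y ≠ p * orderOf x := by
  classical
  have hpp : p.Prime := Fact.out
  obtain ⟨ρ', hρ'⟩ : ∃ ρ : L →* (W ≃ₗ[ZMod p] W), ∀ g w, ρ g w = φ g w := exists_rho (p := p) φ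
  let ρ : SpecialLinearGroup (Fin 4) F →* (W ≃ₗ[ZMod p] W) :=
    ρ'.comp (QuotientGroup.mk' (Subgroup.center (SpecialLinearGroup (Fin 4) F)))
  have hρ : ∀ (x : SpecialLinearGroup (Fin 4) F) (w : W), ρ x w = φ (QuotientGroup.mk x : L) w := fun x w => hρ' _ w
  obtain ⟨c, hc3, hcs, hfix⟩ := exists_class_SL (n := 3) (f := f) (by rw [hF, hq]) W ρ (by
    intro z hz
    ext w
    rw [hρ, (QuotientGroup.eq_one_iff z).2 hz, map_one]
    rfl)
  obtain ⟨θ, x, g, hx, hgood⟩ := H c hc3 (by rw [← hF]; exact hcs)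
  obtain ⟨J, hJ1, hJ2⟩ := hgood.exact hc3 hx.prod
  obtain ⟨w, hw0, hw⟩ := hfix x hx.coprime θ g hx.conj J hJ1 hJ2
  refine ⟨QuotientGroup.mk x, w, ?_, hx.no_order hF hp5⟩
  have hfixk : ∀ i : ℕ, φ ((QuotientGroup.mk x : L) ^ i) w = w := by
    intro i
    induction i with
    | zero => rw [pow_zero, map_one]; rfl
    | succ i ih =>
      rw [pow_succ', map_mul]
      show φ (QuotientGroup.mk x : L) (φ ((QuotientGroup.mk x : L) ^ i) w) = w
      rw [ih, ← hρ, hw]
  rw [Finset.sum_congr rfl fun i _ => hfixk i, Finset.sum_const, Finset.card_range]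
  intro h0
  apply hw0
  have hcop : Nat.Coprime (orderOf (QuotientGroup.mk x : L)) p :=
    Nat.Coprime.coprime_dvd_left (orderOf_map_dvd (QuotientGroup.mk' _) x) hx.coprime
  have h3 : addOrderOf w ∣ p := addOrderOf_dvd_of_nsmul_eq_zero (hW w)
  have h4 : addOrderOf w ∣ orderOf (QuotientGroup.mk x : L) := addOrderOf_dvd_of_nsmul_eq_zero h0
  have h5 : addOrderOf w = 1 := Nat.dvd_one.1 (by rw [← hcop]; exact Nat.dvd_gcd h4 h3)
  exact AddMonoid.addOrderOf_eq_one_iff.1 h5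

/-- **the frame of the row**: for every class family there is a witness -/
theorem hit_of_wit {f : ℕ} (hF : Fintype.card F = q) (hq : q = p ^ f) (hp5 : 5 ≤ p)
    (H : ∀ c : ℕ → ℕ, (∀ a, c a ≤ 3) → Nat.gcd 4 (q - 1) ∣ ∑ a ∈ range f, p ^ a * c a →
      ∃ (θ : Fin 4 → E) (x : SpecialLinearGroup (Fin 4) F) (g : GL (Fin 4) E), Wit F p q θ x g ∧ Good p f c θ) :
    Hit.{u, 0} p L := by
  intro W _ _ _ hW φ
  let _ : Module (ZMod p) W := AddCommGroup.zmodModule hW
  exact core_of_wit hF hq hp5 H W hW φ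

end row

end Cfsg.Agent.H128.CV
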