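import Cfsg.Agent.H128.CV.PslFour

/-!
# S3442 [O3]: the row `PSL_4(q)` in its own characteristic, `p ≥ 5`
-/

set_option autoImplicit false
set_option linter.unusedSectionVars false

namespace Cfsg.Agent.H128.CV

open Matrix Finset Cfsg.Agent.H373.CV

universe u

/-! ### Integer exponents -/

theorem sep6 {M : ℤ} {k : Fin 4 → ℤ} (h01 : ¬ M ∣ k 0 - k 1) (h02 : ¬ M ∣ k 0 - k 2) (h03 : ¬ M ∣ k 0 - k 3)
    (h12 : ¬ M ∣ k 1 - k 2) (h13 : ¬ M ∣ k 1 - k 3) (h23 : ¬ M ∣ k 2 - k 3) : ∀ i j, M ∣ k i - k j → i = j := by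
  intro i j h
  have h' : M ∣ k j - k i := (dvd_sub_comm).1 h
  fin_cases i <;> fin_cases j <;>
    (first
      | rfl
      | exact absurd h h01
      | exact absurd h h02
      | exact absurd h h03
      | exact absurd h h12
      | exact absurd h h13
      | exact absurd h h23
      | exact absurd h' h01
      | exact absurd h' h02
      | exact absurd h' h03
      | exact absurd h' h12
      | exact absurd h' h13
      | exact absurd h' h23)

theorem dvd_of_pow_eq {E : Type*} [Field E] {ζ : E} {M : ℕ} (hζ : IsPrimitiveRoot ζ M) (h0 : ζ ≠ 0) {a b : ℤ} {n : ℕ}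
    (h : (ζ ^ a) ^ n = (ζ ^ b) ^ n) : (M : ℤ) ∣ (a - b) * n := by
  rw [← hζ.zpow_eq_one_iff_dvd, sub_mul, zpow_sub₀ h0, _root_.zpow_mul, _root_.zpow_mul, zpow_natCast, zpow_natCast, h,
    div_self (pow_ne_zero _ (zpow_ne_zero _ h0))]

theorem zpow_pow_eq_one {E : Type*} [Field E] {ζ : E} {M : ℕ} (hζ : IsPrimitiveRoot ζ M) (a : ℤ) : (ζ ^ a) ^ M = 1 := by
  rw [← zpow_natCast, ← _root_.zpow_mul, mul_comm, _root_.zpow_mul, zpow_natCast, hζ.pow_eq_one, _root_.one_zpow]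

section row

variable {F : Type} [Field F] [Fintype F] {p q f : ℕ} [Fact p.Prime] [CharP F p]

local notation "E" => AlgebraicClosure F

/-- the general construction -/
theorem wit_exp (hF : Fintype.card F = q) (hp2 : p ≠ 2) {ζ : E} {M : ℕ} (hM : ¬ p ∣ M) (hζ : IsPrimitiveRoot ζ M)
    {k : Fin 4 → ℤ} (h : ∀ i j, (M : ℤ) ∣ k i - k j → i = j) (hs : (M : ℤ) ∣ k 0 + k 1 + k 2 + k 3)
    (σ : Equiv.Perm (Fin 4)) (hσ : ∀ j, (M : ℤ) ∣ k j * q - k (σ j)) {m : ℕ}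
    (hm : ∀ n : ℕ, (∀ i j, (M : ℤ) ∣ (k i - k j) * n) → m ∣ n) (h1 : ¬ m * Nat.gcd 4 (q - 1) ∣ q ^ 2 - 1)
    (h2 : ¬ m ∣ q - 1) : ∃ (x : SpecialLinearGroup (Fin 4) F) (g : GL (Fin 4) E), Wit F p q (fun j => ζ ^ k j) x g := by
  have hM0 : M ≠ 0 := by
    rintro rfl
    exact hM (dvd_zero _)
  have hζ0 : ζ ≠ 0 := hζ.ne_zero hM0
  obtain ⟨x, g, hx⟩ := exists_exp hF hp2 hM0 hζ h hs σ hσ
  refine ⟨x, g, hx, ?_, ⟨M, ((Nat.Prime.coprime_iff_not_dvd Fact.out).2 hM).symm, fun j => zpow_pow_eq_one hζ _⟩,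
    ⟨m, fun n hn => hm n fun i j => dvd_of_pow_eq hζ hζ0 (hn i j), h1, h2⟩⟩
  rw [Fin.prod_univ_four]
  show ζ ^ k 0 * ζ ^ k 1 * ζ ^ k 2 * ζ ^ k 3 = 1
  rw [← zpow_add₀ hζ0, ← zpow_add₀ hζ0, ← zpow_add₀ hζ0]
  exact (hζ.zpow_eq_one_iff_dvd _).2 hs

/-- (A) only even classes -/
theorem wit_even (hF : Fintype.card F = q) (hpq : p ∣ q) (hp2 : p ≠ 2) (hq : q % 2 = 1) (hq3 : 2 < q) {c : ℕ → ℕ}
    (hc : ∀ a < f, c a % 2 = 0) :
    ∃ (θ : Fin 4 → E) (x : SpecialLinearGroup (Fin 4) F) (g : GL (Fin 4) E), Wit F p q θ x g ∧ Good p f c θ := by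
  have hpp : p.Prime := Fact.out
  -- the prime
  obtain ⟨w, hw⟩ : ∃ w, q = 2 * w + 1 := ⟨q / 2, by omega⟩
  have hn : q ^ 2 + 1 = 2 * (2 * (w ^ 2 + w) + 1) := by rw [hw]; ring
  have hn1 : 2 * (w ^ 2 + w) + 1 ≠ 1 := by
    have h3 : 0 < w := by omega
    omega
  obtain ⟨r, hr, hrn⟩ := Nat.exists_prime_and_dvd hn1
  have hr2 : r ≠ 2 := by
    rintro rfl
    omega
  have hrq : r ∣ q ^ 2 + 1 := by rw [hn]; exact Dvd.dvd.mul_left hrn 2
  have hrZ : (r : ℤ) ∣ (q : ℤ) ^ 2 + 1 := by exact_mod_cast hrq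
  have hrp : Prime (r : ℤ) := Nat.prime_iff_prime_int.1 hr
  have n2 : ¬ (r : ℤ) ∣ 2 := by
    intro h
    have h1 : r ∣ 2 := by exact_mod_cast h
    exact hr2 ((Nat.prime_dvd_prime_iff_eq hr Nat.prime_two).1 h1)
  have nq : ¬ (r : ℤ) ∣ q := by
    intro h
    have h1 := (dvd_sub hrZ (Dvd.dvd.mul_left h (q : ℤ)))
    have h2 : (q : ℤ) ^ 2 + 1 - q * q = 1 := by ring
    rw [h2] at h1
    exact hrp.not_isUnit (isUnit_of_dvd_one h1)
  have nm : ¬ (r : ℤ) ∣ (q : ℤ) - 1 := by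
    intro h
    have h1 := (dvd_sub hrZ (Dvd.dvd.mul_left h ((q : ℤ) + 1)))
    have h2 : (q : ℤ) ^ 2 + 1 - (q + 1) * (q - 1) = 2 := by ring
    rw [h2] at h1
    exact n2 h1
  have np : ¬ (r : ℤ) ∣ (q : ℤ) + 1 := by
    intro h
    have h1 := (dvd_sub hrZ (Dvd.dvd.mul_left h ((q : ℤ) - 1)))
    have h2 : (q : ℤ) ^ 2 + 1 - (q - 1) * (q + 1) = 2 := by ring
    rw [h2] at h1
    exact n2 h1
  have hpr : ¬ p ∣ r := by
    intro h
    have h1 := (Nat.prime_dvd_prime_iff_eq hpp hr).1 h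
    rw [← h1] at nq
    exact nq (by exact_mod_cast hpq)
  obtain ⟨ζ, hζ⟩ := exists_primitive (F := F) hpr
  have hζ0 : ζ ≠ 0 := hζ.ne_zero hr.ne_zero
  obtain ⟨x, g, hx⟩ := wit_exp (M := r) (m := r) (k := ![1, -1, q, -q]) hF hp2 hpr hζ (sep6
      (by simp only [Matrix.cons_val_zero, Matrix.cons_val_one]; norm_num; exact n2)
      (by
        show ¬ (r : ℤ) ∣ 1 - q
        rw [dvd_sub_comm]; exact nm)
      (by
        show ¬ (r : ℤ) ∣ 1 - -q
        rw [sub_neg_eq_add, add_comm]; exact np)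
      (by
        show ¬ (r : ℤ) ∣ -1 - q
        have : (-1 : ℤ) - q = -(q + 1) := by ring
        rw [this, dvd_neg]; exact np)
      (by
        show ¬ (r : ℤ) ∣ -1 - -q
        have : (-1 : ℤ) - -q = q - 1 := by ring
        rw [this]; exact nm)
      (by
        show ¬ (r : ℤ) ∣ q - -q
        have : (q : ℤ) - -q = 2 * q := by ring
        rw [this]
        intro h
        rcases hrp.dvd_or_dvd h with h | h
        · exact n2 h
        · exact nq h))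
    (by
      show (r : ℤ) ∣ 1 + -1 + q + -q
      have : (1 : ℤ) + -1 + q + -q = 0 := by ring
      rw [this]; exact dvd_zero _)
    (Equiv.ofBijective (![2, 3, 1, 0] : Fin 4 → Fin 4) (by decide))
    (by
      intro j
      rw [Equiv.ofBijective_apply]
      fin_cases j
      · show (r : ℤ) ∣ 1 * q - q
        rw [one_mul, sub_self]; exact dvd_zero _
      · show (r : ℤ) ∣ -1 * q - -q
        have : (-1 : ℤ) * q - -q = 0 := by ring
        rw [this]; exact dvd_zero _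
      · show (r : ℤ) ∣ q * q - -1
        have : (q : ℤ) * q - -1 = q ^ 2 + 1 := by ring
        rw [this]; exact hrZ
      · show (r : ℤ) ∣ -q * q - 1
        have : -(q : ℤ) * q - 1 = -(q ^ 2 + 1) := by ring
        rw [this, dvd_neg]; exact hrZ)
    (by
      intro n hn
      have h1 := hn 0 1
      have h2 : (r : ℤ) ∣ (1 - -1) * n := h1
      rcases hrp.dvd_or_dvd h2 with h3 | h3
      · norm_num at h3
        exact absurd h3 n2
      · exact_mod_cast h3)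
    (by
      intro h
      have h1 : r ∣ q ^ 2 - 1 := (Dvd.intro _ rfl).trans h
      have h2 : (r : ℤ) ∣ (q : ℤ) ^ 2 - 1 := by
        have h3 : (r : ℤ) ∣ ((q ^ 2 - 1 : ℕ) : ℤ) := by exact_mod_cast h1
        rw [Nat.cast_sub (Nat.one_le_pow _ _ (by omega))] at h3
        push_cast at h3
        exact h3
      have h3 := dvd_sub hrZ h2
      have h4 : (q : ℤ) ^ 2 + 1 - (q ^ 2 - 1) = 2 := by ring
      rw [h4] at h3
      exact n2 h3)
    (by
      intro h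
      apply nm
      have h3 : (r : ℤ) ∣ ((q - 1 : ℕ) : ℤ) := by exact_mod_cast h
      rw [Nat.cast_sub (by omega)] at h3
      push_cast at h3
      exact h3)
  refine ⟨_, x, g, hx, good_even ?_ hc⟩
  show ζ ^ (1 : ℤ) * ζ ^ (-1 : ℤ) = 1
  rw [← zpow_add₀ hζ0]
  norm_num

/-- (B) no class two -/
theorem wit_three (hF : Fintype.card F = q) (hpq : p ∣ q) (hp2 : p ≠ 2) (hq3 : 2 < q) {c : ℕ → ℕ}
    (hc : ∀ a < f, c a % 4 ≠ 2) :
    ∃ (θ : Fin 4 → E) (x : SpecialLinearGroup (Fin 4) F) (g : GL (Fin 4) E), Wit F p q θ x g ∧ Good p f c θ := by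
  have hpp : p.Prime := Fact.out
  -- the prime
  have h9 : ¬ 9 ∣ q ^ 2 + q + 1 := by
    intro h
    have h1 : ((q ^ 2 + q + 1 : ℕ) : ZMod 9) = 0 := (ZMod.natCast_eq_zero_iff _ _).2 h
    push_cast at h1
    have h2 : ∀ x : ZMod 9, x ^ 2 + x + 1 ≠ 0 := by decide
    exact h2 _ h1
  obtain ⟨r, hr, hrq, hr3⟩ : ∃ r : ℕ, r.Prime ∧ r ∣ q ^ 2 + q + 1 ∧ r ≠ 3 := by
    by_cases h3 : 3 ∣ q ^ 2 + q + 1
    · obtain ⟨n, hn⟩ := h3
      have hn1 : n ≠ 1 := by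
        rintro rfl
        nlinarith
      obtain ⟨r, hr, hrn⟩ := Nat.exists_prime_and_dvd hn1
      refine ⟨r, hr, by rw [hn]; exact Dvd.dvd.mul_left hrn 3, ?_⟩
      rintro rfl
      obtain ⟨n', rfl⟩ := hrn
      exact h9 ⟨n', by rw [hn]; ring⟩
    · obtain ⟨r, hr, hrn⟩ := Nat.exists_prime_and_dvd (show q ^ 2 + q + 1 ≠ 1 by omega)
      exact ⟨r, hr, hrn, fun h => h3 (h ▸ hrn)⟩
  have hrZ : (r : ℤ) ∣ (q : ℤ) ^ 2 + q + 1 := by exact_mod_cast hrq
  have hrp : Prime (r : ℤ) := Nat.prime_iff_prime_int.1 hr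
  have n1 : ¬ (r : ℤ) ∣ 1 := fun h => hrp.not_isUnit (isUnit_of_dvd_one h)
  have n3 : ¬ (r : ℤ) ∣ 3 := by
    intro h
    have h1 : r ∣ 3 := by exact_mod_cast h
    exact hr3 ((Nat.prime_dvd_prime_iff_eq hr Nat.prime_three).1 h1)
  have nq : ¬ (r : ℤ) ∣ q := by
    intro h
    have h1 := (dvd_sub hrZ (Dvd.dvd.mul_left h ((q : ℤ) + 1)))
    have h2 : (q : ℤ) ^ 2 + q + 1 - (q + 1) * q = 1 := by ring
    rw [h2] at h1
    exact n1 h1
  have nm : ¬ (r : ℤ) ∣ (q : ℤ) - 1 := by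
    intro h
    have h1 := (dvd_sub hrZ (Dvd.dvd.mul_left h ((q : ℤ) + 2)))
    have h2 : (q : ℤ) ^ 2 + q + 1 - (q + 2) * (q - 1) = 3 := by ring
    rw [h2] at h1
    exact n3 h1
  have np : ¬ (r : ℤ) ∣ (q : ℤ) + 1 := by
    intro h
    have h1 := (dvd_sub hrZ (Dvd.dvd.mul_left h (q : ℤ)))
    have h2 : (q : ℤ) ^ 2 + q + 1 - q * (q + 1) = 1 := by ring
    rw [h2] at h1
    exact n1 h1
  have nmp : ¬ (r : ℤ) ∣ (q : ℤ) ^ 2 - 1 := by
    intro h
    have h2 : (q : ℤ) ^ 2 - 1 = (q - 1) * (q + 1) := by ring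
    rw [h2] at h
    rcases hrp.dvd_or_dvd h with h | h
    · exact nm h
    · exact np h
  have hpr : ¬ p ∣ r := by
    intro h
    have h1 := (Nat.prime_dvd_prime_iff_eq hpp hr).1 h
    rw [← h1] at nq
    exact nq (by exact_mod_cast hpq)
  obtain ⟨ζ, hζ⟩ := exists_primitive (F := F) hpr
  have hζ0 : ζ ≠ 0 := hζ.ne_zero hr.ne_zero
  obtain ⟨x, g, hx⟩ := wit_exp (M := r) (m := r) (k := ![0, 1, q, (q : ℤ) ^ 2]) hF hp2 hpr hζ (sep6
      (by
        show ¬ (r : ℤ) ∣ 0 - 1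
        rw [zero_sub, dvd_neg]; exact n1)
      (by
        show ¬ (r : ℤ) ∣ 0 - q
        rw [zero_sub, dvd_neg]; exact nq)
      (by
        show ¬ (r : ℤ) ∣ 0 - (q : ℤ) ^ 2
        rw [zero_sub, dvd_neg]
        exact fun h => nq (hrp.dvd_of_dvd_pow h))
      (by
        show ¬ (r : ℤ) ∣ 1 - q
        rw [dvd_sub_comm]; exact nm)
      (by
        show ¬ (r : ℤ) ∣ 1 - (q : ℤ) ^ 2
        rw [dvd_sub_comm]; exact nmp)
      (by
        show ¬ (r : ℤ) ∣ q - (q : ℤ) ^ 2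
        rw [dvd_sub_comm]
        have : (q : ℤ) ^ 2 - q = q * (q - 1) := by ring
        rw [this]
        intro h
        rcases hrp.dvd_or_dvd h with h | h
        · exact nq h
        · exact nm h))
    (by
      show (r : ℤ) ∣ 0 + 1 + q + (q : ℤ) ^ 2
      have : (0 : ℤ) + 1 + q + (q : ℤ) ^ 2 = q ^ 2 + q + 1 := by ring
      rw [this]; exact hrZ)
    (Equiv.ofBijective (![0, 2, 3, 1] : Fin 4 → Fin 4) (by decide))
    (by
      intro j
      rw [Equiv.ofBijective_apply]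
      fin_cases j
      · show (r : ℤ) ∣ 0 * q - 0
        rw [zero_mul, sub_self]; exact dvd_zero _
      · show (r : ℤ) ∣ 1 * q - q
        rw [one_mul, sub_self]; exact dvd_zero _
      · show (r : ℤ) ∣ q * q - (q : ℤ) ^ 2
        have : (q : ℤ) * q - (q : ℤ) ^ 2 = 0 := by ring
        rw [this]; exact dvd_zero _
      · show (r : ℤ) ∣ (q : ℤ) ^ 2 * q - 1
        have : (q : ℤ) ^ 2 * q - 1 = (q - 1) * (q ^ 2 + q + 1) := by ring
        rw [this]; exact Dvd.dvd.mul_left hrZ _)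
    (by
      intro n hn
      have h1 := hn 1 0
      have h2 : (r : ℤ) ∣ (1 - 0) * n := h1
      rw [sub_zero, one_mul] at h2
      exact_mod_cast h2)
    (by
      intro h
      apply nmp
      have h1 : r ∣ q ^ 2 - 1 := (Dvd.intro _ rfl).trans h
      have h3 : (r : ℤ) ∣ ((q ^ 2 - 1 : ℕ) : ℤ) := by exact_mod_cast h1
      rw [Nat.cast_sub (Nat.one_le_pow _ _ (by omega))] at h3
      push_cast at h3
      exact h3)
    (by
      intro h
      apply nm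
      have h3 : (r : ℤ) ∣ ((q - 1 : ℕ) : ℤ) := by exact_mod_cast h
      rw [Nat.cast_sub (by omega)] at h3
      push_cast at h3
      exact h3)
  refine ⟨_, x, g, hx, good_three ?_ ?_ hc⟩
  · show ζ ^ (0 : ℤ) = 1
    rw [zpow_zero]
  · show ζ ^ (1 : ℤ) * ζ ^ (q : ℤ) * ζ ^ ((q : ℤ) ^ 2) = 1
    rw [← zpow_add₀ hζ0, ← zpow_add₀ hζ0, hζ.zpow_eq_one_iff_dvd]
    have : (1 : ℤ) + q + (q : ℤ) ^ 2 = q ^ 2 + q + 1 := by ring
    rw [this]; exact hrZ

/-- (C) `q ≡ 3 (mod 4)`, an odd class -/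
theorem wit_C (hF : Fintype.card F = q) (hpq : p ∣ q) (hp2 : p ≠ 2) (hq : q % 4 = 3) {c : ℕ → ℕ} {a0 : ℕ} (ha0 : a0 < f)
    (hodd : c a0 % 2 = 1) :
    ∃ (θ : Fin 4 → E) (x : SpecialLinearGroup (Fin 4) F) (g : GL (Fin 4) E), Wit F p q θ x g ∧ Good p f c θ := by
  have hpp : p.Prime := Fact.out
  have hpodd : p % 2 = 1 := (Nat.Prime.mod_two_eq_one_iff_ne_two hpp).2 hp2
  -- the two part
  obtain ⟨s, u, hu, hsu⟩ := Nat.exists_eq_two_pow_mul_odd (n := q + 1) (by omega)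
  obtain ⟨u', rfl⟩ := hu
  have hs2 : 2 ≤ s := by
    by_contra hcon
    have : s = 0 ∨ s = 1 := by omega
    rcases this with rfl | rfl <;> omega
  obtain ⟨s', rfl⟩ := Nat.exists_eq_add_of_le hs2
  obtain ⟨v, hv⟩ : ∃ v, q = 4 * v + 3 := ⟨q / 4, by omega⟩
  have hM4 : 2 ^ (2 + s' + 1) = 8 * 2 ^ s' := by ring
  have hMz : (((2 ^ (2 + s' + 1) : ℕ)) : ℤ) = 2 * 2 ^ (2 + s') := by push_cast; ring
  have hsuZ : (q : ℤ) + 1 = 2 ^ (2 + s') * (2 * u' + 1) := by exact_mod_cast hsu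
  have hvZ : (q : ℤ) = 4 * v + 3 := by exact_mod_cast hv
  set P : ℤ := 2 ^ (2 + s') with hP
  have hP4 : P = 4 * 2 ^ s' := by rw [hP]; ring
  have hP0 : 0 < (2 : ℤ) ^ s' := by positivity
  have hpM : ¬ p ∣ 2 ^ (2 + s' + 1) := by
    intro h
    exact hp2 ((Nat.prime_dvd_prime_iff_eq hpp Nat.prime_two).1 (hpp.dvd_of_dvd_pow h))
  obtain ⟨ζ, hζ⟩ := exists_primitive (F := F) hpM
  have hM0 : 2 ^ (2 + s' + 1) ≠ 0 := by positivity
  have hζ0 : ζ ≠ 0 := hζ.ne_zero hM0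
  -- odd numbers are not divisible
  have nodd : ∀ t : ℤ, ¬ (((2 ^ (2 + s' + 1) : ℕ)) : ℤ) ∣ 2 * t + 1 := by
    rintro t ⟨y, hy⟩
    rw [hMz] at hy
    have h1 : 2 * t + 1 = 2 * (P * y) := by rw [hy]; ring
    omega
  have hPeven : ∃ P', P = 2 * P' := ⟨2 * 2 ^ s', by rw [hP4]; ring⟩
  obtain ⟨P', hP'⟩ := hPeven
  have hdv : (2 * P) ∣ (q : ℤ) * q - 1 := by
    refine ⟨(2 * u' + 1) * (2 * v + 1), ?_⟩
    have h1 : (q : ℤ) * q - 1 = (q + 1) * (q - 1) := by ring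
    rw [h1, hsuZ, hvZ]
    ring
  obtain ⟨x, g, hx⟩ := wit_exp (M := 2 ^ (2 + s' + 1)) (m := 2 ^ (2 + s' + 1)) (k := ![1, q, 0, P]) hF hp2 hpM hζ (sep6
      (by
        show ¬ (((2 ^ (2 + s' + 1) : ℕ)) : ℤ) ∣ 1 - q
        rintro ⟨y, hy⟩
        rw [hMz, hP4] at hy
        have h1 : 1 - (q : ℤ) = 8 * (2 ^ s' * y) := by rw [hy]; ring
        omega)
      (by
        show ¬ (((2 ^ (2 + s' + 1) : ℕ)) : ℤ) ∣ 1 - 0
        exact nodd 0)
      (by
        show ¬ (((2 ^ (2 + s' + 1) : ℕ)) : ℤ) ∣ 1 - P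
        have : 1 - P = 2 * (-P') + 1 := by rw [hP']; ring
        rw [this]; exact nodd _)
      (by
        show ¬ (((2 ^ (2 + s' + 1) : ℕ)) : ℤ) ∣ q - 0
        have : (q : ℤ) - 0 = 2 * (2 * v + 1) + 1 := by rw [hvZ]; ring
        rw [this]; exact nodd _)
      (by
        show ¬ (((2 ^ (2 + s' + 1) : ℕ)) : ℤ) ∣ q - P
        have : (q : ℤ) - P = 2 * (2 * v + 1 - P') + 1 := by rw [hvZ, hP']; ring
        rw [this]; exact nodd _)
      (by
        show ¬ (((2 ^ (2 + s' + 1) : ℕ)) : ℤ) ∣ 0 - P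
        rintro ⟨y, hy⟩
        rw [hMz] at hy
        have h1 : P * (2 * y + 1) = 0 := by
          have : P * (2 * y + 1) = 2 * P * y + P := by ring
          rw [this, ← hy]; ring
        rcases mul_eq_zero.1 h1 with h2 | h2
        · rw [hP4] at h2; omega
        · omega))
    (by
      show (((2 ^ (2 + s' + 1) : ℕ)) : ℤ) ∣ 1 + q + 0 + P
      refine ⟨u' + 1, ?_⟩
      rw [hMz]
      have : (1 : ℤ) + q + 0 + P = (q + 1) + P := by ring
      rw [this, hsuZ]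
      ring)
    (Equiv.swap 0 1)
    (by
      intro j
      rw [hMz]
      fin_cases j
      · show (2 * P) ∣ 1 * q - q
        rw [one_mul, sub_self]; exact dvd_zero _
      · show (2 * P) ∣ (q : ℤ) * q - 1
        exact hdv
      · show (2 * P) ∣ (0 : ℤ) * q - 0
        rw [zero_mul, sub_self]; exact dvd_zero _
      · show (2 * P) ∣ P * q - P
        refine ⟨2 * v + 1, ?_⟩
        rw [hvZ]; ring)
    (by
      intro n hn
      have h1 := hn 0 2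
      have h2 : (((2 ^ (2 + s' + 1) : ℕ)) : ℤ) ∣ (1 - 0) * n := h1
      rw [sub_zero, one_mul] at h2
      exact_mod_cast h2)
    (by
      have hg : Nat.gcd 4 (q - 1) = 2 := by
        have h1 : q - 1 = 2 * (2 * v + 1) := by omega
        rw [h1, show (4 : ℕ) = 2 * 2 from rfl, Nat.gcd_mul_left]
        have h2 : Nat.gcd 2 (2 * v + 1) = 1 := by simp
        rw [h2]
      rw [hg]
      rintro ⟨y, hy⟩
      have h1 : ((q ^ 2 - 1 : ℕ) : ℤ) = (q + 1) * (q - 1) := by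
        rw [Nat.cast_sub (Nat.one_le_pow _ _ (by omega))]
        push_cast
        ring
      have h2 : ((q ^ 2 - 1 : ℕ) : ℤ) = (2 * P) * 2 * y := by
        rw [hy]
        push_cast
        rw [hP]
        ring
      rw [h1, hsuZ, hvZ] at h2
      have h3 : P * (2 * ((2 * u' + 1) * (2 * v + 1)) - 4 * y) = 0 := by linear_combination h2
      rcases mul_eq_zero.1 h3 with h4 | h4
      · rw [hP4] at h4; omega
      · have h5 : (2 * (u' : ℤ) + 1) * (2 * v + 1) = 2 * (2 * u' * v + u' + v) + 1 := by ring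
        rw [h5] at h4
        omega)
    (by
      rintro ⟨y, hy⟩
      rw [hM4, mul_assoc] at hy
      omega)
  refine ⟨_, x, g, hx, good_sign hpodd ?_ ?_ ?_ ha0 hodd⟩
  · have hz : ζ ^ P = -1 := by
      have h1 : (ζ ^ P) ^ 2 = 1 := by
        rw [← zpow_natCast, ← _root_.zpow_mul, hζ.zpow_eq_one_iff_dvd, hMz]
        exact ⟨1, by push_cast; ring⟩
      have h2 : ζ ^ P ≠ 1 := by
        rw [Ne, hζ.zpow_eq_one_iff_dvd, hMz]
        rintro ⟨y, hy⟩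
        have h3 : P * (2 * y - 1) = 0 := by linear_combination -hy
        rcases mul_eq_zero.1 h3 with h4 | h4
        · rw [hP4] at h4; omega
        · omega
      have h3 : (ζ ^ P - 1) * (ζ ^ P + 1) = 0 := by linear_combination h1
      rcases mul_eq_zero.1 h3 with h4 | h4
      · exact absurd (sub_eq_zero.1 h4) h2
      · exact eq_neg_of_add_eq_zero_left h4
    show ζ ^ (1 : ℤ) * ζ ^ (q : ℤ) = -1
    rw [← zpow_add₀ hζ0, add_comm, hsuZ, _root_.zpow_mul, hz]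
    exact Odd.neg_one_zpow ⟨u', rfl⟩
  · show ζ ^ (0 : ℤ) = 1
    exact zpow_zero _
  · show ζ ^ P = -1
    have h1 : (ζ ^ P) ^ 2 = 1 := by
      rw [← zpow_natCast, ← _root_.zpow_mul, hζ.zpow_eq_one_iff_dvd, hMz]
      exact ⟨1, by push_cast; ring⟩
    have h2 : ζ ^ P ≠ 1 := by
      rw [Ne, hζ.zpow_eq_one_iff_dvd, hMz]
      rintro ⟨y, hy⟩
      have h3 : P * (2 * y - 1) = 0 := by linear_combination -hy
      rcases mul_eq_zero.1 h3 with h4 | h4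
      · rw [hP4] at h4; omega
      · omega
    have h3 : (ζ ^ P - 1) * (ζ ^ P + 1) = 0 := by linear_combination h1
    rcases mul_eq_zero.1 h3 with h4 | h4
    · exact absurd (sub_eq_zero.1 h4) h2
    · exact eq_neg_of_add_eq_zero_left h4

/-- (D) `q ≡ 1 (mod 4)`, an odd class and a class two -/
theorem wit_D (hF : Fintype.card F = q) (hpq : p ∣ q) (hp2 : p ≠ 2) (hq : q % 4 = 1) (hq1 : 1 < q) {c : ℕ → ℕ}
    (hc : (∑ a ∈ range f, p ^ a * c a) % 4 = 0) {a1 a2 : ℕ} (ha1 : a1 < f) (hodd : c a1 % 2 = 1) (ha2 : a2 < f)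
    (htwo : c a2 % 4 = 2) :
    ∃ (θ : Fin 4 → E) (x : SpecialLinearGroup (Fin 4) F) (g : GL (Fin 4) E), Wit F p q θ x g ∧ Good p f c θ := by
  have hpp : p.Prime := Fact.out
  have hpodd : p % 2 = 1 := (Nat.Prime.mod_two_eq_one_iff_ne_two hpp).2 hp2
  obtain ⟨s, u, hu, hsu⟩ := Nat.exists_eq_two_pow_mul_odd (n := q - 1) (by omega)
  obtain ⟨u', rfl⟩ := hu
  have hs2 : 2 ≤ s := by
    by_contra hcon
    have : s = 0 ∨ s = 1 := by omega
    rcases this with rfl | rfl <;> omega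
  obtain ⟨v, hv⟩ : ∃ v, q = 4 * v + 1 := ⟨q / 4, by omega⟩
  obtain ⟨r, hr, hrn⟩ := Nat.exists_prime_and_dvd (show 2 * v + 1 ≠ 1 by omega)
  have hr2 : r ≠ 2 := by
    rintro rfl
    omega
  have hrq : r ∣ q + 1 := by
    have : q + 1 = (2 * v + 1) * 2 := by omega
    rw [this]; exact Dvd.dvd.mul_right hrn 2
  have hrZ : (r : ℤ) ∣ (q : ℤ) + 1 := by exact_mod_cast hrq
  have hrp : Prime (r : ℤ) := Nat.prime_iff_prime_int.1 hr
  have n2 : ¬ (r : ℤ) ∣ 2 := by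
    intro h
    have h1 : r ∣ 2 := by exact_mod_cast h
    exact hr2 ((Nat.prime_dvd_prime_iff_eq hr Nat.prime_two).1 h1)
  have n2s : ∀ t : ℕ, ¬ (r : ℤ) ∣ 2 ^ t := fun t h => n2 (hrp.dvd_of_dvd_pow h)
  have nm : ¬ (r : ℤ) ∣ (q : ℤ) - 1 := by
    intro h
    have h1 := (dvd_sub hrZ h)
    have h2 : (q : ℤ) + 1 - (q - 1) = 2 := by ring
    rw [h2] at h1
    exact n2 h1
  have nq : ¬ (r : ℤ) ∣ q := by
    intro h
    have h1 := (dvd_sub hrZ h)
    have h2 : (q : ℤ) + 1 - q = 1 := by ring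
    rw [h2] at h1
    exact hrp.not_isUnit (isUnit_of_dvd_one h1)
  have hpr : ¬ p ∣ r := by
    intro h
    have h1 := (Nat.prime_dvd_prime_iff_eq hpp hr).1 h
    rw [← h1] at nq
    exact nq (by exact_mod_cast hpq)
  have hpM : ¬ p ∣ 2 ^ s * r := by
    intro h
    rcases hpp.dvd_mul.1 h with h | h
    · exact hp2 ((Nat.prime_dvd_prime_iff_eq hpp Nat.prime_two).1 (hpp.dvd_of_dvd_pow h))
    · exact hpr h
  obtain ⟨ζ, hζ⟩ := exists_primitive (F := F) hpM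
  have hM0 : 2 ^ s * r ≠ 0 := mul_ne_zero (by positivity) hr.ne_zero
  have hζ0 : ζ ≠ 0 := hζ.ne_zero hM0
  obtain ⟨x, hx0⟩ := @exists_mixed (AlgebraicClosure F) _ p f c hpodd s hc a1 a2 ha1 hodd ha2 htwo
  have hsuZ : (q : ℤ) - 1 = 2 ^ s * (2 * u' + 1) := by
    have h1 : ((q - 1 : ℕ) : ℤ) = 2 ^ s * (2 * u' + 1) := by exact_mod_cast hsu
    rwa [Nat.cast_sub (by omega), Nat.cast_one] at h1
  have hMz : (((2 ^ s * r : ℕ)) : ℤ) = 2 ^ s * r := by push_cast; ring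
  obtain ⟨w, hw⟩ := hrZ
  obtain ⟨r', hr'⟩ : ∃ r', (r : ℤ) = 2 * r' + 1 := by
    obtain ⟨r', hr'⟩ := hr.odd_of_ne_two hr2
    exact ⟨r', by exact_mod_cast hr'⟩
  obtain ⟨s', rfl⟩ := Nat.exists_eq_add_of_le hs2
  have hP4 : (2 : ℤ) ^ (2 + s') = 4 * 2 ^ s' := by ring
  -- the divisibility by `r`
  have nr : ∀ t : ℤ, ¬ (((2 ^ (2 + s') * r : ℕ)) : ℤ) ∣ r * t + 2 ^ (2 + s') := by
    intro t h
    have h1 : (r : ℤ) ∣ r * t + 2 ^ (2 + s') := (Dvd.intro_left (2 ^ (2 + s')) hMz.symm).trans h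
    exact n2s _ ((dvd_add_right (Dvd.intro _ rfl)).1 h1)
  obtain ⟨y, g, hy⟩ := wit_exp (M := 2 ^ (2 + s') * r) (m := 2 ^ (2 + s') * r)
    (k := ![r * x + 2 ^ (2 + s'), r * x - 2 ^ (2 + s'), r * (1 - x), r * (-1 - x)]) hF hp2 hpM hζ (sep6
      (by
        show ¬ (((2 ^ (2 + s') * r : ℕ)) : ℤ) ∣ r * x + 2 ^ (2 + s') - (r * x - 2 ^ (2 + s'))
        intro h
        have h1 : (r : ℤ) ∣ r * x + 2 ^ (2 + s') - (r * x - 2 ^ (2 + s')) :=
          (Dvd.intro_left (2 ^ (2 + s')) hMz.symm).trans h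
        have h2 : (r : ℤ) * x + 2 ^ (2 + s') - (r * x - 2 ^ (2 + s')) = 2 ^ (2 + s' + 1) := by ring
        rw [h2] at h1
        exact n2s _ h1)
      (by
        show ¬ (((2 ^ (2 + s') * r : ℕ)) : ℤ) ∣ r * x + 2 ^ (2 + s') - r * (1 - x)
        have h2 : (r : ℤ) * x + 2 ^ (2 + s') - r * (1 - x) = r * (2 * x - 1) + 2 ^ (2 + s') := by ring
        rw [h2]; exact nr _)
      (by
        show ¬ (((2 ^ (2 + s') * r : ℕ)) : ℤ) ∣ r * x + 2 ^ (2 + s') - r * (-1 - x)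
        have h2 : (r : ℤ) * x + 2 ^ (2 + s') - r * (-1 - x) = r * (2 * x + 1) + 2 ^ (2 + s') := by ring
        rw [h2]; exact nr _)
      (by
        show ¬ (((2 ^ (2 + s') * r : ℕ)) : ℤ) ∣ r * x - 2 ^ (2 + s') - r * (1 - x)
        have h2 : (r : ℤ) * x - 2 ^ (2 + s') - r * (1 - x) = -(r * (1 - 2 * x) + 2 ^ (2 + s')) := by ring
        rw [h2, dvd_neg]; exact nr _)
      (by
        show ¬ (((2 ^ (2 + s') * r : ℕ)) : ℤ) ∣ r * x - 2 ^ (2 + s') - r * (-1 - x)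
        have h2 : (r : ℤ) * x - 2 ^ (2 + s') - r * (-1 - x) = -(r * (-1 - 2 * x) + 2 ^ (2 + s')) := by ring
        rw [h2, dvd_neg]; exact nr _)
      (by
        show ¬ (((2 ^ (2 + s') * r : ℕ)) : ℤ) ∣ r * (1 - x) - r * (-1 - x)
        rintro ⟨t, ht⟩
        rw [hMz, hP4] at ht
        have h1 : (r : ℤ) * (2 * (2 * (2 ^ s' * t)) - 2) = 0 := by linear_combination -ht
        rcases mul_eq_zero.1 h1 with h2 | h2
        · exact hrp.ne_zero h2
        · omega))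
    (by
      show (((2 ^ (2 + s') * r : ℕ)) : ℤ) ∣ r * x + 2 ^ (2 + s') + (r * x - 2 ^ (2 + s')) + r * (1 - x) + r * (-1 - x)
      have h2 : (r : ℤ) * x + 2 ^ (2 + s') + (r * x - 2 ^ (2 + s')) + r * (1 - x) + r * (-1 - x) = 0 := by ring
      rw [h2]; exact dvd_zero _)
    (Equiv.swap 0 1)
    (by
      intro j
      rw [hMz]
      fin_cases j
      · show (2 ^ (2 + s') * r : ℤ) ∣ (r * x + 2 ^ (2 + s')) * q - (r * x - 2 ^ (2 + s'))
        refine ⟨x * (2 * u' + 1) + w, ?_⟩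
        linear_combination (r * x : ℤ) * hsuZ + 2 ^ (2 + s') * hw
      · show (2 ^ (2 + s') * r : ℤ) ∣ (r * x - 2 ^ (2 + s')) * q - (r * x + 2 ^ (2 + s'))
        refine ⟨x * (2 * u' + 1) - w, ?_⟩
        linear_combination (r * x : ℤ) * hsuZ - 2 ^ (2 + s') * hw
      · show (2 ^ (2 + s') * r : ℤ) ∣ (r * (1 - x)) * q - (r * (1 - x))
        refine ⟨(1 - x) * (2 * u' + 1), ?_⟩
        linear_combination (r * (1 - x) : ℤ) * hsuZ
      · show (2 ^ (2 + s') * r : ℤ) ∣ (r * (-1 - x)) * q - (r * (-1 - x))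
        refine ⟨(-1 - x) * (2 * u' + 1), ?_⟩
        linear_combination (r * (-1 - x) : ℤ) * hsuZ)
    (by
      intro n hn
      have h1 : (((2 ^ (2 + s') * r : ℕ)) : ℤ) ∣ (r * x + 2 ^ (2 + s') - (r * x - 2 ^ (2 + s'))) * n := hn 0 1
      have h2 : (((2 ^ (2 + s') * r : ℕ)) : ℤ) ∣ (r * x + 2 ^ (2 + s') - r * (1 - x)) * n := hn 0 2
      have h3 : (r : ℤ) ∣ n := by
        have h4 : (r : ℤ) ∣ (r * x + 2 ^ (2 + s') - (r * x - 2 ^ (2 + s'))) * n :=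
          (Dvd.intro_left (2 ^ (2 + s')) hMz.symm).trans h1
        have h5 : ((r : ℤ) * x + 2 ^ (2 + s') - (r * x - 2 ^ (2 + s'))) = 2 ^ (2 + s' + 1) := by ring
        rw [h5] at h4
        exact (hrp.dvd_or_dvd h4).resolve_left (n2s _)
      have h6 : (2 : ℤ) ^ (2 + s') ∣ n := by
        have h4 : (2 : ℤ) ^ (2 + s') ∣ (r * x + 2 ^ (2 + s') - r * (1 - x)) * n :=
          (Dvd.intro _ hMz.symm).trans h2
        have h5 : ((r : ℤ) * x + 2 ^ (2 + s') - r * (1 - x)) * n = r * (2 * x - 1) * n + 2 ^ (2 + s') * n := by ring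
        rw [h5] at h4
        have h7 := (dvd_add_left (Dvd.intro _ rfl)).1 h4
        have h8 : IsCoprime ((2 : ℤ) ^ (2 + s')) (r * (2 * x - 1)) := by
          apply IsCoprime.pow_left
          rw [Int.isCoprime_iff_gcd_eq_one]
          have h9 : (r : ℤ) * (2 * x - 1) = 2 * ((2 * r' + 1) * x - r' - 1) + 1 := by rw [hr']; ring
          rw [h9]
          have h10 : IsCoprime (2 : ℤ) (2 * ((2 * r' + 1) * x - r' - 1) + 1) :=
            ⟨-((2 * r' + 1) * x - r' - 1), 1, by ring⟩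
          exact Int.isCoprime_iff_gcd_eq_one.1 h10
        exact h8.dvd_of_dvd_mul_left h7
      have h7 : 2 ^ (2 + s') ∣ n := by exact_mod_cast h6
      have h8 : r ∣ n := by exact_mod_cast h3
      refine Nat.Coprime.mul_dvd_of_dvd_of_dvd ?_ h7 h8
      exact Nat.Coprime.pow_left _ ((Nat.coprime_primes Nat.prime_two hr).2 fun h => hr2 h.symm))
    (by
      have hg : Nat.gcd 4 (q - 1) = 4 := Nat.gcd_eq_left ⟨v, by omega⟩
      rw [hg]
      rintro ⟨t, ht⟩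
      have h1 : ((q ^ 2 - 1 : ℕ) : ℤ) = (q + 1) * (q - 1) := by
        rw [Nat.cast_sub (Nat.one_le_pow _ _ (by omega))]
        push_cast
        ring
      have h2 : ((q ^ 2 - 1 : ℕ) : ℤ) = 2 ^ (2 + s') * r * 4 * t := by
        rw [ht]
        push_cast
        ring
      have hvZ : (q : ℤ) + 1 = 2 * (2 * v + 1) := by
        have : (q : ℤ) = 4 * v + 1 := by exact_mod_cast hv
        rw [this]; ring
      rw [h1, hsuZ, hvZ] at h2
      have h3 : (2 : ℤ) ^ (2 + s') * (2 * ((2 * v + 1) * (2 * u' + 1)) - 4 * (r * t)) = 0 := by linear_combination h2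
      rcases mul_eq_zero.1 h3 with h4 | h4
      · exact absurd h4 (by positivity)
      · have h5 : (2 * (v : ℤ) + 1) * (2 * u' + 1) = 2 * (2 * v * u' + u' + v) + 1 := by ring
        rw [h5] at h4
        omega)
    (by
      intro h
      apply nm
      have h3 : (r : ℤ) ∣ ((q - 1 : ℕ) : ℤ) := by
        exact_mod_cast (Dvd.intro_left (2 ^ (2 + s')) rfl).trans h
      rw [Nat.cast_sub (by omega)] at h3
      push_cast at h3
      exact h3)
  refine ⟨_, y, g, hy, hx0 (ζ ^ (r : ℤ)) _ (zpow_ne_zero _ hζ0) ?_ ?_ ?_ ?_⟩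
  · rw [← zpow_natCast, ← _root_.zpow_mul, hζ.zpow_eq_one_iff_dvd]
    exact ⟨1, by push_cast; ring⟩
  · show ζ ^ ((r : ℤ) * x + 2 ^ (2 + s')) * ζ ^ ((r : ℤ) * x - 2 ^ (2 + s')) = (ζ ^ (r : ℤ)) ^ (2 * x)
    rw [← zpow_add₀ hζ0, ← _root_.zpow_mul]
    congr 1
    ring
  · show ζ ^ ((r : ℤ) * (1 - x)) = (ζ ^ (r : ℤ)) ^ (1 - x)
    rw [← _root_.zpow_mul]
  · show ζ ^ ((r : ℤ) * (-1 - x)) = (ζ ^ (r : ℤ)) ^ (-1 - x)
    rw [← _root_.zpow_mul]

end row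

/-- **the row**: `PSL_4(q)`, `q` a power of `p ≥ 5` -/
theorem hit_psl4 (F : Type) [Field F] [Fintype F] (p : ℕ) [Fact p.Prime] [CharP F p] (hp5 : 5 ≤ p) :
    Hit.{u, 0} p (Matrix.ProjectiveSpecialLinearGroup (Fin 4) F) := by
  have hpp : p.Prime := Fact.out
  obtain ⟨⟨f, hf⟩, -, hq⟩ := FiniteField.card F p
  have hq' : Fintype.card F = p ^ f := hq
  have hp2 : p ≠ 2 := by omega
  have hpodd : p % 2 = 1 := (Nat.Prime.mod_two_eq_one_iff_ne_two hpp).2 hp2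
  have hpq : p ∣ Fintype.card F := by rw [hq']; exact dvd_pow_self p hf.ne'
  have hqodd : Fintype.card F % 2 = 1 := by
    rw [hq']
    exact Nat.odd_iff.1 (Odd.pow (Nat.odd_iff.2 hpodd))
  have hq5 : 5 ≤ Fintype.card F := hp5.trans (Nat.le_of_dvd Fintype.card_pos hpq)
  refine hit_of_wit rfl hq' hp5 fun c hc hcs => ?_
  by_cases h1 : ∀ a < f, c a % 2 = 0
  · exact wit_even rfl hpq hp2 hqodd (by omega) h1
  · obtain ⟨a1, ha1, hodd⟩ : ∃ a, a < f ∧ ¬ c a % 2 = 0 := by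
      by_contra hcon
      exact h1 fun a ha => by_contra fun h => hcon ⟨a, ha, h⟩
    have hodd' : c a1 % 2 = 1 := by omega
    by_cases h3 : Fintype.card F % 4 = 3
    · exact wit_C rfl hpq hp2 h3 ha1 hodd'
    · have h4 : Fintype.card F % 4 = 1 := by omega
      by_cases h2 : ∀ a < f, c a % 4 ≠ 2
      · exact wit_three rfl hpq hp2 (by omega) h2
      · obtain ⟨a2, ha2, htwo⟩ : ∃ a, a < f ∧ c a % 4 = 2 := by
          by_contra hcon
          exact h2 fun a ha h => hcon ⟨a, ha, h⟩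
        refine wit_D rfl hpq hp2 h4 (by omega) ?_ ha1 hodd' ha2 htwo
        have hg : Nat.gcd 4 (Fintype.card F - 1) = 4 := Nat.gcd_eq_left ⟨Fintype.card F / 4, by omega⟩
        rw [hg] at hcs
        exact Nat.mod_eq_zero_of_dvd hcs

end Cfsg.Agent.H128.CV
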