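import Cfsg.Agent.H128.CV.PsuFour
import Cfsg.Agent.H379.CV.SUEng

/-!
# S3442 [O3]: `PSU_4(q)` from the class form `ClsSU` of the `SU_n` engine
-/

set_option autoImplicit false

namespace Cfsg.Agent.H128.CV

open Cfsg.Agent.H373.CV

universe u

theorem clsU_of {F : Type} [Field F] [Fintype F] {p q f : ℕ} [Fact p.Prime] [CharP F p]
    (h : Cfsg.Agent.H379.SUD.ClsSU.{u} p 4 q f F) : ClsU.{u} F p q f := by
  intro W _ _ _ _ ρ _
  obtain ⟨c, -, hc⟩ := h W ρ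
  refine ⟨c, fun x hx θ g hg hgood => ?_⟩
  obtain ⟨J, hJ1, hJ2⟩ := hgood
  exact hc x θ g hg ((Nat.Prime.coprime_iff_not_dvd Fact.out).1 hx.symm) J hJ1 hJ2

/-- **the row**: `PSU_4(q)`, `q` a power of `p ≥ 5`, `q ≡ 1 (mod 4)`, from the engine -/
theorem hit_psu4 (F : Type) [Field F] [Fintype F] (p : ℕ) [Fact p.Prime] [CharP F p] {q : ℕ}
    (hF : Fintype.card F = q ^ 2) (hq : q % 4 = 1) (hp5 : 5 ≤ p)
    (hcls : ∀ f : ℕ, q = p ^ f → Cfsg.Agent.H379.SUD.ClsSU.{u} p 4 q f F) :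
    Hit.{u, 0} p (Cfsg.PSU 4 F q) :=
  hit_psu4_of F p hF hq hp5 fun f hf => clsU_of (hcls f hf)

end Cfsg.Agent.H128.CV
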